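import Groth.Agent.SGA3x.K14.CentGL
import Groth.Agent.SGA3x.K197.RatDefs
import Groth.Agent.Sga3B.RG.Extremal

/-!
# Convolution nilpotent derivations of trigonalizable groups

`B` a finitely generated Hopf domain over an algebraically closed field all of whose simple
representations are one-dimensional.  A linear form on `B` which kills all group-like elements is
locally nilpotent for the convolution product (`nil_of_groupLike`).  If `B` has a central maximal
torus `π : B → K[ℤⁿ]`, every `ε`-derivation of `B` is the sum of a tangent vector of the torus and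
of a locally nilpotent form (`exists_dH`).
-/

set_option autoImplicit false

universe u w

open WithConv TensorProduct Coalgebra

namespace K772.NilConv

open Groth.Agent Groth.Agent.Sga3B Groth.Agent.Sga3B.RG Groth.Agent.Sga3B.RG.K8 Groth.Agent.Sga3B.RG.CentralPt
open Groth.Agent.Sga3A.ComodBasic K14.CentGL K197.Rat

variable {K : Type u} [Field K] {A : Type u} [CommRing A] [HopfAlgebra K A]

lemma T_pow (Y : A →ₗ[K] K) (n : ℕ) (a : A) :
    T A ((toConv Y) ^ n).ofConv a = ((T A Y) ^ n) a := by
  induction n generalizing a with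
  | zero =>
    rw [pow_zero, pow_zero, Module.End.one_apply]
    have h : (1 : WithConv (A →ₗ[K] K)).ofConv = counit (R := K) (A := A) := by
      refine LinearMap.ext fun x => ?_
      change algebraMap K K (counit (R := K) x) = _
      rfl
    rw [h]
    exact T_counit a
  | succ n ih =>
    have h : ((toConv Y) ^ (n + 1)).ofConv = conv ((toConv Y) ^ n).ofConv Y := by
      rw [pow_succ]
      rfl
    rw [h, ← T_T, ih, pow_succ, Module.End.mul_apply]

lemma conv_pow_apply (Y : A →ₗ[K] K) (n : ℕ) (a : A) :
    ((toConv Y) ^ n).ofConv a = counit (R := K) (((T A Y) ^ n) a) := by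
  rw [← T_pow, counit_T]

/-- the vector `(F ⊗ id) Δ w` -/
lemma apply_T (F Y : A →ₗ[K] K) (w : A) :
    F (T A Y w) = Y (TensorProduct.lid K A (LinearMap.rTensor A F (comul (R := K) w))) := by
  rw [T_apply]
  change F (TensorProduct.rid K A (LinearMap.lTensor A Y (comul (R := K) w))) = _
  generalize comul (R := K) w = z
  induction z with
  | zero => simp
  | add x y hx hy => simp only [map_add, hx, hy]
  | tmul x y => simp [mul_comm]

variable [IsAlgClosed K] [Algebra.FiniteType K A] [IsDomain A]

/-- **Linear forms killing the characters of a trigonalizable group are locally nilpotent.** -/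
theorem nil_of_groupLike
    (hone : ∀ (V : Type u) [AddCommGroup V] [Module K V] [FiniteDimensional K V]
      (ρ : Representation K (Pt K A) V), IsAlg ρ → IsSimpleRep ρ → Module.finrank K V = 1)
    (Y : A →ₗ[K] K) (hY : ∀ b : A, IsGroupLikeElem K b → Y b = 0) (a : A) :
    ∃ n : ℕ, ((T A Y) ^ n) a = 0 := by
  classical
  -- the statement for stable finite-dimensional subspaces
  have key : ∀ (d : ℕ) (W : Submodule K A) [FiniteDimensional K W], IsStable (rTrRep K A) W →
      Module.finrank K W ≤ d → ∀ w ∈ W, ((T A Y) ^ d) w = 0 := by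
    intro d
    induction d with
    | zero =>
      intro W _ _ hd w hw
      have h0 : W = ⊥ := Submodule.finrank_eq_zero.1 (Nat.le_zero.1 hd)
      rw [h0, Submodule.mem_bot] at hw
      rw [hw, map_zero]
    | succ d ih =>
      intro W _ hst hd w hw
      by_cases hW0 : W = ⊥
      · rw [hW0, Submodule.mem_bot] at hw
        rw [hw, map_zero]
      let ρ : Representation K (Pt K A) W := (rTrRep K A).subrepresentation W hst
      have hρ : IsAlg ρ := isAlg_sub K8.isAlg_rTrRep W hst
      have hρv : ∀ g (w : W), ((ρ g w : W) : A) = rTr g (w : A) := fun g w => rfl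
      have hnt : Nontrivial W := Submodule.nontrivial_iff_ne_bot.2 hW0
      have hne : (⊤ : Submodule K (Module.Dual K W)) ≠ ⊥ := top_ne_bot
      obtain ⟨f, -, hf0, ψ, hψ⟩ := K8.exists_eigen (isAlg_dual hρ) hone (U := ⊤) (fun g w _ => trivial) hne
      obtain ⟨χ, hχ⟩ := Trig.exists_groupLike (isAlg_dual hρ) hf0 fun g => ⟨ψ g, hψ g⟩
      obtain ⟨F, hF⟩ := LinearMap.exists_extend f
      have hFf : ∀ w : W, F (w : A) = f w := fun w => by rw [← hF]; rfl
      let b₀ : A := HopfAlgebra.antipode K χ.val
      have hb₀ : IsGroupLikeElem K b₀ := χ.2.antipode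
      -- the equation of `f`
      have hact : ∀ (g : Pt K A) (w : W), F (rTr g (w : A)) = g b₀ * F (w : A) := by
        intro g w
        have h1 := LinearMap.congr_fun (hχ g⁻¹) w
        rw [dual_apply_apply, inv_inv, LinearMap.smul_apply, smul_eq_mul] at h1
        rw [← hρv, hFf, h1, hFf, Pt.inv_apply]
      -- contraction on the left
      have hcon : ∀ (F' : A →ₗ[K] K) (g : Pt K A) (a : A),
          g (TensorProduct.lid K A (LinearMap.rTensor A F' (comul (R := K) a))) = F' (rTr g a) := by
        intro F' g a
        rw [rTr_eq_T]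
        exact (apply_T F' g.ofConv.toLinearMap a).symm
      -- the operator preserves `W`
      have hTW : ∀ w ∈ W, T A Y w ∈ W := by
        intro w hw
        by_contra hn
        obtain ⟨F', hF'1, hF'2⟩ := Submodule.exists_dual_map_eq_bot_of_notMem hn inferInstance
        have h0 : TensorProduct.lid K A (LinearMap.rTensor A F' (comul (R := K) w)) = 0 := by
          apply eq_of_forall_pt (K := K)
          intro g
          rw [hcon]
          have h2 : rTr g w ∈ W := hst g w hw
          have h3 : F' (rTr g w) ∈ W.map F' := ⟨_, h2, rfl⟩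
          rw [hF'2, Submodule.mem_bot] at h3
          rw [h3]
          exact (map_zero g.ofConv).symm
        apply hF'1
        rw [apply_T, h0, map_zero]
      have hTF : ∀ w ∈ W, F (T A Y w) = 0 := by
        intro w hw
        have h0 : TensorProduct.lid K A (LinearMap.rTensor A F (comul (R := K) w)) = F w • b₀ := by
          apply eq_of_forall_pt (K := K)
          intro g
          rw [hcon, hact g ⟨w, hw⟩]
          refine Eq.trans ?_ (map_smul g.ofConv _ _).symm
          rw [smul_eq_mul, mul_comm]
        rw [apply_T, h0, map_smul, hY b₀ hb₀, smul_zero]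
      let W' : Submodule K A := W ⊓ LinearMap.ker F
      have hW' : IsStable (rTrRep K A) W' := by
        rintro g w ⟨hw1, hw2⟩
        refine ⟨hst g w hw1, ?_⟩
        rw [SetLike.mem_coe, LinearMap.mem_ker] at hw2 ⊢
        have h1 := hact g ⟨w, hw1⟩
        rw [show F ((⟨w, hw1⟩ : W) : A) = 0 from hw2, mul_zero] at h1
        exact h1
      have hlt : W' < W := by
        refine lt_of_le_of_ne inf_le_left fun h => hf0 ?_
        refine LinearMap.ext fun w => ?_
        have h1 : (w : A) ∈ W' := by rw [h]; exact w.2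
        rw [← hFf]
        exact h1.2
      have hfd : FiniteDimensional K W' := Submodule.finiteDimensional_of_le inf_le_left
      have hfr : Module.finrank K W' ≤ d := by
        have := Submodule.finrank_lt_finrank_of_lt hlt
        omega
      rw [pow_succ, Module.End.mul_apply]
      exact ih W' hW' hfr _ ⟨hTW w hw, hTF w hw⟩
  obtain ⟨W, hW, hfin, hs⟩ := CentralPt.exists_finite_stable (K := K) (A := A) {a}
  exact ⟨_, key _ W hW le_rfl a (hs a (by simp))⟩

lemma nil_conv
    (hone : ∀ (V : Type u) [AddCommGroup V] [Module K V] [FiniteDimensional K V]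
      (ρ : Representation K (Pt K A) V), IsAlg ρ → IsSimpleRep ρ → Module.finrank K V = 1)
    (Y : A →ₗ[K] K) (hY : ∀ b : A, IsGroupLikeElem K b → Y b = 0) (a : A) :
    ∃ n₀ : ℕ, ∀ n ≥ n₀, ((toConv Y) ^ n).ofConv a = 0 := by
  obtain ⟨n₀, h⟩ := nil_of_groupLike hone Y hY a
  refine ⟨n₀, fun n hn => ?_⟩
  rw [conv_pow_apply]
  obtain ⟨m, rfl⟩ := Nat.exists_eq_add_of_le hn
  rw [add_comm, pow_add, Module.End.mul_apply, h, map_zero, map_zero]

/-- **The Lie algebra of a connected group with central maximal torus.** -/
theorem exists_dH {r : ℕ} (π : A →ₐc[K] MonoidAlgebra K (Multiplicative (Fin r → ℤ)))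
    (hπ : Function.Surjective π) (hT : IsMaxTorusSub (Pt.map π).range)
    (hc : (Pt.map π).range ≤ Subgroup.center (Pt K A)) (X : A →ₗ[K] K) (hX : X ∈ eDer K A K) :
    ∃ lam : (Fin r → ℤ) →+ K, ∀ a : A, ∃ n₀ : ℕ, ∀ n ≥ n₀,
      ((toConv (X - dH (π : A →ₐ[K] MonoidAlgebra K (Multiplicative (Fin r → ℤ))) lam)) ^ n).ofConv a = 0 := by
  obtain ⟨ρ, hρ1, hρ2⟩ := K14.CentGL.exists_retraction π hπ hT hc
  have hX' : ∀ a b : A, X (a * b) = counit (R := K) a * X b + counit (R := K) b * X a := mem_eDer.1 hX
  have hε : ∀ m, counit (R := K) (ρ (MonoidAlgebra.of K (Multiplicative (Fin r → ℤ)) m)) = 1 := fun m =>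
    ((MonoidAlgebra.isGroupLikeElem_of m).map ρ).counit_eq_one
  let lam : (Fin r → ℤ) →+ K :=
    { toFun := fun m => X (ρ (MonoidAlgebra.of K _ (Multiplicative.ofAdd m)))
      map_zero' := by
        have h1 := hX' 1 1
        rw [Bialgebra.counit_one, mul_one, one_mul] at h1
        have h2 : X 1 = 0 := by
          have := h1
          rwa [left_eq_add] at this
        rw [ofAdd_zero, map_one, map_one, h2]
      map_add' := fun m m' => by
        rw [ofAdd_add, map_mul, map_mul, hX', hε, hε, one_mul, one_mul, add_comm] }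
  refine ⟨lam, nil_conv (fun V _ _ _ σ hσ hs => CentralTorus.finrank_eq_one hT hc hσ hs) _ fun b hb => ?_⟩
  obtain ⟨m, hm⟩ := MonoidAlgebra.isGroupLikeElem_iff_mem_range_of.1 (hb.map π)
  have h1 : dH (π : A →ₐ[K] MonoidAlgebra K (Multiplicative (Fin r → ℤ))) lam b = lam m.toAdd := by
    change mForm lam (π b) = _
    rw [← hm, MonoidAlgebra.of_apply, mForm_single, one_mul]
  rw [LinearMap.sub_apply, h1]
  change X b - X (ρ (MonoidAlgebra.of K _ m)) = 0
  rw [hm, hρ2 b hb, sub_self]

end K772.NilConv
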