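import Groth.Agent.SGA3x.K14.CentMaxTorus
import Groth.Agent.SGA3x.K197.RatNodes
import Groth.Agent.SGA3x.K772.NilConv
import Mathlib.Algebra.DualNumber

/-!
# The Lie algebra of the centralizer of a maximal torus (node N7 of S8390)

`K` algebraically closed, `G = Spec A` smooth connected affine, `T ⟶ G` a maximal torus.  A tangent
vector of `G` at the unit centralised by `T` is the sum of a tangent vector of `T` and of a locally
(convolution) nilpotent one.
-/

set_option autoImplicit false
universe u
open CategoryTheory MonoidalCategory CartesianMonoidalCategory MonObj GrpObj AlgebraicGeometry Limits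
open TensorProduct WithConv

namespace K772.LieCent

open Groth.Agent Groth.Agent.Sga3B Groth.Agent.Books.AffBridge Groth.Agent.Books.AffBridge2
open Groth.Agent.Sga3B.RG Groth.Agent.Sga3B.RG.BrPts Groth.Agent.Sga3B.RG.BrDiag
open Groth.Agent.Sga3B.RG.K8 K197.Rat K14.CentMaxTorus

variable {K : Type u} [Field K]

/-- Morphisms to affine schemes factor through the spectrum of the ring of global functions. -/
lemma exists_gamma (X : Over (Spec (CommRingCat.of K))) :
    ∃ (R : Type u) (_ : CommRing R) (_ : Algebra K R) (u : X ⟶ SpecOver K R),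
      ∀ (B : Type u) [CommRing B] [Algebra K B] (f : X ⟶ SpecOver K B), ∃ φ : B →ₐ[K] R,
        f = u ≫ specMap K φ := by
  let R : Type u := Γ(X.left, ⊤)
  let iK : K →+* R := ((Scheme.ΓSpecIso (CommRingCat.of K)).inv ≫ X.hom.appTop).hom
  let _ : Algebra K R := iK.toAlgebra
  have hnat : ∀ (C : Type u) [CommRing C] (f : X.left ⟶ Spec (CommRingCat.of C)),
      X.left.toSpecΓ ≫ Spec.map ((Scheme.ΓSpecIso (CommRingCat.of C)).inv ≫ f.appTop) = f := by
    intro C _ f
    rw [Spec.map_comp, ← Category.assoc, ← Scheme.toSpecΓ_naturality, Category.assoc]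
    have h1 : (Spec (CommRingCat.of C)).toSpecΓ ≫ Spec.map (Scheme.ΓSpecIso (CommRingCat.of C)).inv = 𝟙 _ := by
      simp
    rw [h1, Category.comp_id]
  refine ⟨R, inferInstance, inferInstance, Over.homMk X.left.toSpecΓ (hnat K X.hom), fun B _ _ f => ?_⟩
  let fl : X.left ⟶ Spec (CommRingCat.of B) := f.left
  let ψ : B →+* R := ((Scheme.ΓSpecIso (CommRingCat.of B)).inv ≫ fl.appTop).hom
  have hψ : X.left.toSpecΓ ≫ Spec.map (CommRingCat.ofHom ψ) = fl := hnat B fl
  have hcomm : ψ.comp (algebraMap K B) = iK := by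
    have h1 : fl ≫ Spec.map (CommRingCat.ofHom (algebraMap K B)) = X.hom := Over.w f
    have h2 : X.hom.appTop = (Spec.map (CommRingCat.ofHom (algebraMap K B))).appTop ≫ fl.appTop := by
      rw [← Scheme.Hom.comp_appTop]
      exact congrArg Scheme.Hom.appTop h1.symm
    have h3 : (Scheme.ΓSpecIso (CommRingCat.of K)).inv ≫ (Spec.map (CommRingCat.ofHom (algebraMap K B))).appTop =
        CommRingCat.ofHom (algebraMap K B) ≫ (Scheme.ΓSpecIso (CommRingCat.of B)).inv :=
      (Scheme.ΓSpecIso_inv_naturality _).symm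
    change _ = ((Scheme.ΓSpecIso (CommRingCat.of K)).inv ≫ X.hom.appTop).hom
    rw [h2, ← Category.assoc, h3, Category.assoc]
    rfl
  let φ : B →ₐ[K] R := { ψ with commutes' := fun r => congr($hcomm r) }
  refine ⟨φ, ?_⟩
  ext1
  exact hψ.symm

/-- Powers of linear forms for the convolution product and coalgebra maps. -/
lemma conv_pow_comp {A B : Type u} [CommRing A] [HopfAlgebra K A] [CommRing B] [HopfAlgebra K B]
    (φ : A →ₐc[K] B) (f : A →ₗ[K] K) (g : B →ₗ[K] K) (h : ∀ a, f a = g (φ a)) (n : ℕ) (a : A) :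
    ((toConv f) ^ n).ofConv a = ((toConv g) ^ n).ofConv (φ a) := by
  induction n generalizing a with
  | zero =>
    rw [pow_zero, pow_zero]
    change algebraMap K K (Coalgebra.counit (R := K) a) = algebraMap K K (Coalgebra.counit (R := K) (φ a))
    rw [CoalgHomClass.counit_comp_apply φ a]
  | succ n ih =>
    rw [pow_succ, pow_succ]
    change LinearMap.mul' K K (TensorProduct.map ((toConv f) ^ n).ofConv f (Coalgebra.comul (R := K) a)) =
      LinearMap.mul' K K (TensorProduct.map ((toConv g) ^ n).ofConv g (Coalgebra.comul (R := K) (φ a)))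
    rw [← CoalgHomClass.map_comp_comul_apply φ a]
    generalize Coalgebra.comul (R := K) a = z
    induction z with
    | zero => simp
    | add x y hx hy => simp only [map_add, hx, hy]
    | tmul x y =>
      rw [TensorProduct.map_tmul, TensorProduct.map_tmul, TensorProduct.map_tmul, LinearMap.mul'_apply,
        LinearMap.mul'_apply, ih, h]
      rfl

/-- The point with values in the dual numbers given by an `ε`-derivation. -/
noncomputable def dpt {A : Type u} [CommRing A] [HopfAlgebra K A] (X : A →ₗ[K] K) (hX : X ∈ eDer K A K) :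
    A →ₐ[K] DualNumber K :=
  AlgHom.ofLinearMap
    { toFun := fun a => TrivSqZeroExt.inl (Coalgebra.counit (R := K) a) + TrivSqZeroExt.inr (X a)
      map_add' := fun a b => by
        rw [map_add, map_add, TrivSqZeroExt.inl_add, TrivSqZeroExt.inr_add]
        abel
      map_smul' := fun c a => by
        rw [map_smul, map_smul, RingHom.id_apply]
        ext <;> simp }
    (by
      have h1 := mem_eDer.1 hX 1 1
      rw [Bialgebra.counit_one, _root_.mul_one, map_one (algebraMap K K), _root_.one_mul, left_eq_add] at h1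
      change TrivSqZeroExt.inl (Coalgebra.counit (R := K) (1 : A)) + TrivSqZeroExt.inr (X 1) = 1
      rw [h1, Bialgebra.counit_one, TrivSqZeroExt.inr_zero, add_zero, TrivSqZeroExt.inl_one])
    (fun a b => by
      change TrivSqZeroExt.inl (Coalgebra.counit (R := K) (a * b)) + TrivSqZeroExt.inr (X (a * b)) =
        (TrivSqZeroExt.inl (Coalgebra.counit (R := K) a) + TrivSqZeroExt.inr (X a)) *
          (TrivSqZeroExt.inl (Coalgebra.counit (R := K) b) + TrivSqZeroExt.inr (X b))
      rw [mem_eDer.1 hX, Bialgebra.counit_mul]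
      ext <;> simp [mul_comm])

lemma dpt_apply {A : Type u} [CommRing A] [HopfAlgebra K A] (X : A →ₗ[K] K) (hX : X ∈ eDer K A K) (a : A) :
    dpt X hX a = TrivSqZeroExt.inl (Coalgebra.counit (R := K) a) + TrivSqZeroExt.inr (X a) := rfl

/-- The dual point commutes with the points of the torus. -/
theorem commute_dpt {A M : Type u} [CommRing A] [HopfAlgebra K A] [CommRing M] [Algebra K M]
    (t : A →ₐ[K] M) (X : A →ₗ[K] K) (hX : X ∈ eDer K A K)
    (hc : toConv t.toLinearMap * toConv ((Algebra.linearMap K M).comp X) =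
      toConv ((Algebra.linearMap K M).comp X) * toConv t.toLinearMap)
    {R : Type u} [CommRing R] [Algebra K R] (α : DualNumber K →ₐ[K] R) (β : M →ₐ[K] R) :
    toConv (α.comp (dpt X hX)) * toConv (β.comp t) = toConv (β.comp t) * toConv (α.comp (dpt X hX)) := by
  let s : R := α (TrivSqZeroExt.inr 1)
  have hα : ∀ x y : K, α (TrivSqZeroExt.inl x + TrivSqZeroExt.inr y) = algebraMap K R x + s * algebraMap K R y := by
    intro x y
    have h1 : (TrivSqZeroExt.inl x : DualNumber K) = algebraMap K (DualNumber K) x := rfl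
    have h2 : (TrivSqZeroExt.inr y : DualNumber K) = TrivSqZeroExt.inr 1 * algebraMap K (DualNumber K) y := by
      rw [← Algebra.commutes, ← Algebra.smul_def, ← TrivSqZeroExt.inr_smul, smul_eq_mul, _root_.mul_one]
    rw [map_add, h1, h2, map_mul, AlgHom.commutes, AlgHom.commutes]
  apply WithConv.ofConv_injective
  refine AlgHom.ext fun a => ?_
  -- the two products, on tensors
  have hl : ∀ z : A ⊗[K] A,
      LinearMap.mul' K R (TensorProduct.map (α.comp (dpt X hX)).toLinearMap (β.comp t).toLinearMap z) =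
        β (t (TensorProduct.lid K A (LinearMap.rTensor A (Coalgebra.counit (R := K)) z))) +
          s * β (LinearMap.mul' K M (TensorProduct.map ((Algebra.linearMap K M).comp X) t.toLinearMap z)) := by
    intro z
    induction z with
    | zero => simp
    | add x y hx hy => simp only [map_add, hx, hy]; ring
    | tmul x y =>
      simp only [TensorProduct.map_tmul, LinearMap.mul'_apply, LinearMap.rTensor_tmul, TensorProduct.lid_tmul,
        AlgHom.toLinearMap_apply, AlgHom.comp_apply, dpt_apply, hα, LinearMap.comp_apply,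
        Algebra.linearMap_apply, map_mul, AlgHom.commutes, Algebra.smul_def]
      ring
  have hr : ∀ z : A ⊗[K] A,
      LinearMap.mul' K R (TensorProduct.map (β.comp t).toLinearMap (α.comp (dpt X hX)).toLinearMap z) =
        β (t (TensorProduct.rid K A (LinearMap.lTensor A (Coalgebra.counit (R := K)) z))) +
          s * β (LinearMap.mul' K M (TensorProduct.map t.toLinearMap ((Algebra.linearMap K M).comp X) z)) := by
    intro z
    induction z with
    | zero => simp
    | add x y hx hy => simp only [map_add, hx, hy]; ring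
    | tmul x y =>
      simp only [TensorProduct.map_tmul, LinearMap.mul'_apply, LinearMap.lTensor_tmul, TensorProduct.rid_tmul,
        AlgHom.toLinearMap_apply, AlgHom.comp_apply, dpt_apply, hα, LinearMap.comp_apply,
        Algebra.linearMap_apply, map_mul, AlgHom.commutes, Algebra.smul_def]
      ring
  have hc' : LinearMap.mul' K M (TensorProduct.map t.toLinearMap ((Algebra.linearMap K M).comp X)
        (Coalgebra.comul (R := K) a)) =
      LinearMap.mul' K M (TensorProduct.map ((Algebra.linearMap K M).comp X) t.toLinearMap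
        (Coalgebra.comul (R := K) a)) := congrArg (fun f : WithConv (A →ₗ[K] M) => f.ofConv a) hc
  have h1 := hl (Coalgebra.comul (R := K) a)
  have h2 := hr (Coalgebra.comul (R := K) a)
  rw [Coalgebra.rTensor_counit_comul, TensorProduct.lid_tmul, one_smul] at h1
  rw [Coalgebra.lTensor_counit_comul, TensorProduct.rid_tmul, one_smul, hc'] at h2
  have h3 : ∀ f g : A →ₐ[K] R, (toConv f * toConv g).ofConv a =
      LinearMap.mul' K R (TensorProduct.map f.toLinearMap g.toLinearMap (Coalgebra.comul (R := K) a)) := by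
    intro f g
    exact congrArg (fun l : WithConv (A →ₗ[K] R) => l.ofConv a)
      (AlgHom.toLinearMap_convMul (toConv f) (toConv g))
  rw [h3, h3, h1, h2]

/-- **Node N7 of S8390**: the Lie algebra of the centralizer of a maximal torus. -/
theorem main : K197.Rat.N7_lieCent.{u} := by
  intro K A _ _ _ _ _ _ r t ht T _ i hi e _ hei X hX hc
  have him : IsMonHom i := hi.1
  have himono : Mono i := hi.2.1
  have hTt : Red.IsTorus T := hi.2.2.1
  have hconnG : ConnectedSpace (SpecOver K A).left := inferInstanceAs (ConnectedSpace (PrimeSpectrum A))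
  have haffG : IsAffine (SpecOver K A).left := inferInstanceAs (IsAffine (Spec (CommRingCat.of A)))
  have haffhG : IsAffineHom (SpecOver K A).hom := inferInstance
  obtain ⟨C, _, c, hcc, hcl, hCs, -⟩ := Sga3.H798.CentSep.exists_smooth_centralizer i hTt
  have hcm : IsMonHom c := hcc.1
  have hcmono : Mono c := hcc.2.1
  have hconn : ConnectedSpace C.left := Agf.H591.Cartan.connectedSpace_centralizer i hTt hcc
  have haff : IsAffine C.left := isAffine_of_isAffineHom c.left
  obtain ⟨j, hj⟩ := (hcc.2.2 T i).2 (by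
    intro X x t
    rw [← MonObj.mul_comp, ← MonObj.mul_comp, SplitBc264.torus_comm hTt])
  have hjm : IsMonHom j := by
    have : IsMonHom (j ≫ c) := by rw [hj]; exact him
    exact Sga3C.SubGrp.isMonHom_of_comp_mono j c
  have hjmax : Red.IsMaximalTorus j :=
    Sga3.H831.CartTors.isMaximalTorus_of_comp c j (by rw [hj]; exact hi)
  have hjc : ∀ (X : Over (Spec (CommRingCat.of K))) (t : X ⟶ T) (g : X ⟶ C), (t ≫ j) * g = g * (t ≫ j) := by
    intro X t g
    rw [← cancel_mono c, MonObj.mul_comp, MonObj.mul_comp, Category.assoc, hj]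
    have := (hcc.2.2 _ (g ≫ c)).1 ⟨g, rfl⟩ _ (𝟙 _) t
    rw [Category.id_comp] at this
    exact this.symm
  -- Hopf algebras
  obtain ⟨B, _, _, eC, heC, hft, hdom⟩ := Agf.H611.NilPts.exists_hopf_domain C
  obtain ⟨π, hπ⟩ := exists_bialg e eC j
  have hid : IsMonHom (Iso.refl (SpecOver K A)).hom := inferInstanceAs (IsMonHom (𝟙 (SpecOver K A)))
  obtain ⟨φ, hφ⟩ := exists_bialg eC (Iso.refl (SpecOver K A)) c
  rw [Iso.refl_hom, Category.comp_id] at hφ
  have htφ : ∀ a, t a = π (φ a) := by
    have h1 : e.hom ≫ specMap K (t : A →ₐ[K] MonoidAlgebra K (Multiplicative (Fin r → ℤ))) =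
        e.hom ≫ specMap K ((π : B →ₐ[K] MonoidAlgebra K (Multiplicative (Fin r → ℤ))).comp (φ : A →ₐ[K] B)) := by
      rw [← hei, specMap_comp, ← Category.assoc, ← hπ, Category.assoc, ← hφ, hj]
    rw [cancel_epi] at h1
    intro a
    exact DFunLike.congr_fun (specMap_injective K h1) a
  have hπs : Function.Surjective π := fun x => by
    obtain ⟨a, rfl⟩ := ht x
    exact ⟨φ a, (htφ a).symm⟩
  have hφs : Function.Surjective φ := by
    have h1 : IsClosedImmersion (specMap K (φ : A →ₐ[K] B)).left := by
      have h2 : specMap K (φ : A →ₐ[K] B) = eC.inv ≫ c := by rw [hφ, Iso.inv_hom_id_assoc]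
      rw [h2, Over.comp_left]
      infer_instance
    exact (isClosedImmersion_specMap_iff K (φ : A →ₐ[K] B)).1 h1
  have hmax : IsMaxTorusSub (Pt.map π).range := by
    have h1 := BrMax.isMaxTorusSub_of_isMaximalTorus j eC hjmax
    rwa [ptsSub_eq_range (j ≫ eC.hom) π e hπ.symm] at h1
  have hcen : (Pt.map π).range ≤ Subgroup.center (Pt K B) := by
    rintro _ ⟨t, rfl⟩
    rw [Subgroup.mem_center_iff]
    intro g
    apply (ptEquiv K B).injective
    rw [map_mul, map_mul, ptEquiv_map]
    have h1 : ptEquiv K _ t ≫ specMap K (π : B →ₐ[K] MonoidAlgebra K (Multiplicative (Fin r → ℤ))) =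
        ((ptEquiv K _ t ≫ e.inv) ≫ j) ≫ eC.hom := by
      rw [Category.assoc, Category.assoc, hπ, Iso.inv_hom_id_assoc]
    have h2 : ptEquiv K B g = (ptEquiv K B g ≫ eC.inv) ≫ eC.hom := by simp
    rw [h1, h2, ← MonObj.mul_comp, ← MonObj.mul_comp, hjc]
  -- the tangent vector lies in the centralizer
  obtain ⟨z, hz⟩ := (hcc.2.2 (SpecOver K (DualNumber K)) (specMap K (dpt X hX))).2 (by
    intro X' x' h
    obtain ⟨R, _, _, u, hu⟩ := exists_gamma X'
    obtain ⟨α, hα⟩ := hu (DualNumber K) x'
    obtain ⟨β, hβ⟩ := hu _ (h ≫ e.hom)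
    have h1 : h ≫ i = u ≫ specMap K (β.comp (t : A →ₐ[K] MonoidAlgebra K (Multiplicative (Fin r → ℤ)))) := by
      rw [hei, specMap_comp, ← Category.assoc, hβ, Category.assoc]
    have h2 : x' ≫ specMap K (dpt X hX) = u ≫ specMap K (α.comp (dpt X hX)) := by
      rw [hα, specMap_comp, Category.assoc]
    rw [h1, h2, ← MonObj.comp_mul, ← MonObj.comp_mul]
    congr 1
    have h3 := commute_dpt (t : A →ₐ[K] MonoidAlgebra K (Multiplicative (Fin r → ℤ))) X hX hc α β
    have h4 := congrArg (fun f => specMap K f.ofConv) h3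
    simp only [specMap_mul] at h4
    exact h4)
  let y : B →ₐ[K] DualNumber K := specPreimage K (z ≫ eC.hom)
  have hy : ∀ a, y (φ a) = dpt X hX a := by
    have h1 : specMap K (y.comp (φ : A →ₐ[K] B)) = specMap K (dpt X hX) := by
      rw [specMap_comp, specMap_specPreimage, Category.assoc, ← hφ, hz]
    intro a
    exact DFunLike.congr_fun (specMap_injective K h1) a
  let XB : B →ₗ[K] K := (TrivSqZeroExt.sndHom K K).restrictScalars K ∘ₗ y.toLinearMap
  have hXB : ∀ a, X a = XB (φ a) := by
    intro a
    change X a = TrivSqZeroExt.snd (y (φ a))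
    rw [hy, dpt_apply]
    simp
  have hXBd : XB ∈ eDer K B K := by
    rw [mem_eDer]
    intro b b'
    obtain ⟨a, rfl⟩ := hφs b
    obtain ⟨a', rfl⟩ := hφs b'
    rw [← map_mul, ← hXB, ← hXB, ← hXB, mem_eDer.1 hX, CoalgHomClass.counit_comp_apply φ a,
      CoalgHomClass.counit_comp_apply φ a']
  obtain ⟨lam, hlam⟩ := NilConv.exists_dH π hπs hmax hcen XB hXBd
  refine ⟨lam, fun a => ?_⟩
  obtain ⟨n₀, hn⟩ := hlam (φ a)
  refine ⟨n₀, fun n hn' => ?_⟩
  rw [← hn n hn']
  refine conv_pow_comp φ _ _ (fun a => ?_) n a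
  rw [LinearMap.sub_apply, LinearMap.sub_apply, hXB]
  congr 1
  change mForm lam (t a) = mForm lam (π (φ a))
  rw [htφ]

end K772.LieCent
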